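import Groth.Agent.PerfGen.Open
import Groth.Agent.DQCoh.Affine
import Groth.Agent.DQCoh.AffinePerf
import Groth.Agent.PerfLocal.Perfect
import Mathlib

/-!
# Bounded above complexes of finite locally free modules on affine schemes
-/

set_option autoImplicit false
set_option backward.isDefEq.respectTransparency false
set_option backward.isDefEq.respectTransparency.types false
set_option linter.style.haveILetI false
set_option linter.unusedSectionVars false
set_option maxHeartbeats 1000000

universe u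

open CategoryTheory Category Limits AlgebraicGeometry HomologicalComplex DerivedCategory

attribute [local instance] HasDerivedCategory.standard

namespace Groth.Agent.DCohAffKP

open Groth.Agent.DQCoh (RD rC rdComp rdCongr rdIso tCx)

section General

variable {A : Type*} [Category A] [Abelian A] [HasDerivedCategory A]

/-- bijectivity on homotopy classes in terms of complexes -/
theorem bijective_Qh {E F : CochainComplex A ℤ}
    (hinj : ∀ g : E ⟶ F, Q.map g = 0 → (HomotopyCategory.quotient A (ComplexShape.up ℤ)).map g = 0)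
    (hsurj : ∀ φ : Q.obj E ⟶ Q.obj F, ∃ g : E ⟶ F, Q.map g = φ) :
    Function.Bijective (fun φ : (HomotopyCategory.quotient A (ComplexShape.up ℤ)).obj E ⟶
      (HomotopyCategory.quotient A (ComplexShape.up ℤ)).obj F => Qh.map φ) := by
  let q := HomotopyCategory.quotient A (ComplexShape.up ℤ)
  let e := quotientCompQhIso A
  have hnat : ∀ g : E ⟶ F, Qh.map (q.map g) = e.hom.app E ≫ Q.map g ≫ e.inv.app F := fun g =>
    (NatIso.naturality_2 e g).symm
  refine ⟨fun a b hab => ?_, fun φ => ?_⟩
  · obtain ⟨a, rfl⟩ := q.map_surjective a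
    obtain ⟨b, rfl⟩ := q.map_surjective b
    rw [← sub_eq_zero, ← Functor.map_sub]
    refine hinj _ ?_
    have h' : e.hom.app E ≫ Q.map a ≫ e.inv.app F = e.hom.app E ≫ Q.map b ≫ e.inv.app F := by
      rw [← hnat, ← hnat]; exact hab
    rw [cancel_epi, cancel_mono] at h'
    rw [Functor.map_sub, h', sub_self]
  · obtain ⟨g, hg⟩ := hsurj (e.inv.app E ≫ φ ≫ e.hom.app F)
    refine ⟨q.map g, (hnat g).trans ?_⟩
    rw [hg]
    simp

end General

variable {R : Type u} [CommRing R]

/-- the affine spectrum -/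
theorem spec_bijective (E F : CochainComplex (Spec (CommRingCat.of R)).Modules ℤ) (b : ℤ)
    (hEb : ∀ i, b < i → IsZero (E.X i)) (hE : ∀ i, FlatMod.IsFinLocFree (E.X i)) (hF : ∀ i, Coh.IsQCoh (F.X i)) :
    (∀ g : E ⟶ F, Q.map g = 0 → (HomotopyCategory.quotient _ (ComplexShape.up ℤ)).map g = 0) ∧
      ∀ φ : Q.obj E ⟶ Q.obj F, ∃ g : E ⟶ F, Q.map g = φ := by
  haveI : PreservesFiniteLimits (tilde.functor (CommRingCat.of R)) := QC.tilde_preservesFiniteLimits
  obtain ⟨hfull, hfaith, -⟩ := DQCoh.tildeD_affine (R := CommRingCat.of R)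
  haveI := hfull
  haveI := hfaith
  let Γf := moduleSpecΓFunctor (R := CommRingCat.of R)
  let G : CochainComplex (Spec (CommRingCat.of R)).Modules ℤ ⥤ CochainComplex (ModuleCat.{u} R) ℤ :=
    Γf.mapHomologicalComplex (ComplexShape.up ℤ)
  let T := tCx (R := CommRingCat.of R)
  let cmp : ∀ C : CochainComplex (Spec (CommRingCat.of R)).Modules ℤ, T.obj (G.obj C) ⟶ C := fun C =>
    { f := fun n => (Scheme.Modules.fromTildeΓNatTrans (R := CommRingCat.of R)).app (C.X n)
      comm' := fun i j _ => ((Scheme.Modules.fromTildeΓNatTrans (R := CommRingCat.of R)).naturality (C.d i j)).symm }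
  have hnat : ∀ g : E ⟶ F, T.map (G.map g) ≫ cmp F = cmp E ≫ g := fun g => by
    ext n : 1
    exact (Scheme.Modules.fromTildeΓNatTrans (R := CommRingCat.of R)).naturality (g.f n)
  have hiso : ∀ C : CochainComplex (Spec (CommRingCat.of R)).Modules ℤ, (∀ n, Coh.IsQCoh (C.X n)) → IsIso (cmp C) :=
    fun C hC => by
      haveI : ∀ n, IsIso ((cmp C).f n) := fun n => by
        haveI : (C.X n).IsQuasicoherent := hC n
        exact Scheme.Modules.isIso_fromTildeΓ_of_isQuasicoherent (R := CommRingCat.of R) (C.X n)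
      exact HomologicalComplex.Hom.isIso_of_components _
  haveI := hiso E fun n => DQCoh.isQCoh_of_isFinLocFree (hE n)
  haveI := hiso F hF
  haveI : CochainComplex.IsStrictlyLE (G.obj E) b := (CochainComplex.isStrictlyLE_iff _ _).2 fun i hi => Γf.map_isZero (hEb i hi)
  haveI : ∀ n, CategoryTheory.Projective ((G.obj E).X n) := fun n =>
    (IsProjective.iff_projective ((G.obj E).X n)).1 (DQCoh.finiteProjective_gamma _ (hE n)).2
  haveI := CochainComplex.isKProjective_of_projective (G.obj E) b
  let fac := (tilde.functor (CommRingCat.of R)).mapDerivedCategoryFactors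
  refine ⟨fun g hg => ?_, fun φ => ?_⟩
  · have h1 : Q.map (T.map (G.map g)) = 0 := by
      rw [← cancel_mono (Q.map (cmp F)), ← Functor.map_comp, hnat, Functor.map_comp, hg, comp_zero, zero_comp]
    have h2 : Q.map (G.map g) = 0 := by
      refine (DCoh.tildeD (CommRingCat.of R)).map_injective ?_
      rw [Functor.map_zero, ← cancel_mono (fac.hom.app (G.obj F)), zero_comp]
      refine (fac.hom.naturality (G.map g)).trans ?_
      exact (congrArg (fac.hom.app (G.obj E) ≫ ·) h1).trans comp_zero
    let q₀ := HomotopyCategory.quotient (ModuleCat.{u} R) (ComplexShape.up ℤ)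
    have h3 : q₀.map (G.map g) = 0 := by
      refine (CochainComplex.IsKProjective.Qh_map_bijective (G.obj E) _).1 ?_
      rw [Functor.map_zero, ← cancel_mono ((quotientCompQhIso (ModuleCat.{u} R)).hom.app (G.obj F)), zero_comp]
      refine ((quotientCompQhIso (ModuleCat.{u} R)).hom.naturality (G.map g)).trans ?_
      rw [h2, comp_zero]
    have h4 : (HomotopyCategory.quotient _ (ComplexShape.up ℤ)).map (T.map (G.map g)) = 0 := by
      rw [← Functor.map_zero (HomotopyCategory.quotient _ (ComplexShape.up ℤ))]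
      exact HomotopyCategory.eq_of_homotopy _ _ (((tilde.functor (CommRingCat.of R)).mapHomotopy
        (HomotopyCategory.homotopyOfEq _ _ (h3.trans (q₀.map_zero _ _).symm))).trans (Homotopy.ofEq (T.map_zero _ _)))
    have h5 : g = inv (cmp E) ≫ T.map (G.map g) ≫ cmp F := by rw [hnat, IsIso.inv_hom_id_assoc]
    rw [h5, Functor.map_comp, Functor.map_comp, h4, zero_comp, comp_zero]
  · obtain ⟨ψ, hψ⟩ := (DCoh.tildeD (CommRingCat.of R)).map_surjective
      (fac.hom.app (G.obj E) ≫ Q.map (cmp E) ≫ φ ≫ inv (Q.map (cmp F)) ≫ fac.inv.app (G.obj F))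
    obtain ⟨g₀, hg₀⟩ := PerfLocal.exists_lift ψ
    refine ⟨inv (cmp E) ≫ T.map g₀ ≫ cmp F, ?_⟩
    have h1 : Q.map (T.map g₀) = Q.map (cmp E) ≫ φ ≫ inv (Q.map (cmp F)) := by
      have h0 : (DCoh.tildeD (CommRingCat.of R)).map (Q.map g₀) ≫ fac.hom.app (G.obj F) =
          fac.hom.app (G.obj E) ≫ Q.map (T.map g₀) := fac.hom.naturality g₀
      rw [hg₀, hψ] at h0
      rw [← cancel_epi (fac.hom.app (G.obj E)), ← h0]
      simp
      exact congrArg (fun t => Q.map (cmp E) ≫ φ ≫ t) (Category.comp_id _)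
    rw [Functor.map_comp, Functor.map_comp, h1, Functor.map_inv]
    simp

variable {X : Scheme.{u}} [IsAffine X]

/-- **affine schemes** -/
theorem bijective (E F : CochainComplex X.Modules ℤ) (b : ℤ) (hEb : ∀ i, b < i → IsZero (E.X i))
    (hE : ∀ i, FlatMod.IsFinLocFree (E.X i)) (hF : ∀ i, Coh.IsQCoh (F.X i)) :
    Function.Bijective (fun φ : (HomotopyCategory.quotient X.Modules (ComplexShape.up ℤ)).obj E ⟶
      (HomotopyCategory.quotient X.Modules (ComplexShape.up ℤ)).obj F => Qh.map φ) := by
  let j : Spec Γ(X, ⊤) ⟶ X := X.isoSpec.inv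
  let k : X ⟶ Spec Γ(X, ⊤) := X.isoSpec.hom
  let R₁ := Scheme.Modules.restrictFunctor j
  let R₂ := Scheme.Modules.restrictFunctor k
  let c₁ : R₁ ⋙ R₂ ≅ 𝟭 _ := (Scheme.Modules.restrictFunctorComp k j).symm ≪≫
    Scheme.Modules.restrictFunctorCongr X.isoSpec.hom_inv_id ≪≫ Scheme.Modules.restrictFunctorId
  let c₂ : R₂ ⋙ R₁ ≅ 𝟭 _ := (Scheme.Modules.restrictFunctorComp j k).symm ≪≫
    Scheme.Modules.restrictFunctorCongr X.isoSpec.inv_hom_id ≪≫ Scheme.Modules.restrictFunctorId
  haveI : R₁.IsEquivalence := (CategoryTheory.Equivalence.mk R₁ R₂ c₁.symm c₂).isEquivalence_functor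
  haveI : (RD j).Faithful := by
    let d : RD j ⋙ RD k ≅ 𝟭 _ := (rdComp k j).symm ≪≫ rdCongr X.isoSpec.hom_inv_id ≪≫ PerfGen.rdId X
    exact Functor.Faithful.of_comp_iso d
  obtain ⟨hinj, hsurj⟩ := spec_bijective (R := Γ(X, ⊤)) ((rC j).obj E) ((rC j).obj F) b
    (fun i hi => R₁.map_isZero (hEb i hi)) (fun i => DQCoh.isFinLocFree_restrict j (hE i))
    (fun i => QC.isQCoh_restrict j (hF i))
  refine bijective_Qh (fun g hg => ?_) (fun φ => ?_)
  · have h1 : Q.map ((rC j).map g) = 0 := by
      rw [← cancel_epi (rdIso j E).hom, comp_zero]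
      refine (Functor.mapDerivedCategoryFactors_hom_naturality R₁ g).symm.trans ?_
      rw [hg, Functor.map_zero, zero_comp]
    have h2 := hinj _ h1
    let H := R₂.mapHomologicalComplex (ComplexShape.up ℤ)
    have h3 : (HomotopyCategory.quotient X.Modules (ComplexShape.up ℤ)).map (H.map ((rC j).map g)) = 0 := by
      rw [← Functor.map_zero (HomotopyCategory.quotient X.Modules (ComplexShape.up ℤ))]
      exact HomotopyCategory.eq_of_homotopy _ _ ((R₂.mapHomotopy
        (HomotopyCategory.homotopyOfEq _ _ (h2.trans (Functor.map_zero _ _ _).symm))).trans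
          (Homotopy.ofEq (H.map_zero _ _)))
    let e : ∀ C : CochainComplex X.Modules ℤ, H.obj ((rC j).obj C) ≅ C := fun C =>
      HomologicalComplex.Hom.isoOfComponents (fun n => c₁.app (C.X n)) fun a b _ => (c₁.hom.naturality (C.d a b)).symm
    have h4 : g = (e E).inv ≫ H.map ((rC j).map g) ≫ (e F).hom := by
      rw [Iso.eq_inv_comp]
      ext n : 1
      exact (c₁.hom.naturality (g.f n)).symm
    rw [h4]
    exact DQCoh.quotient_map_comp_eq_zero _ _ _ h3
  · obtain ⟨g', hg'⟩ := hsurj ((rdIso j E).inv ≫ (RD j).map φ ≫ (rdIso j F).hom)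
    let g : E ⟶ F :=
      { f := fun n => R₁.preimage (g'.f n)
        comm' := fun a b _ => R₁.map_injective (by
          rw [R₁.map_comp, R₁.map_comp, R₁.map_preimage, R₁.map_preimage]
          exact g'.comm a b) }
    have hg : (rC j).map g = g' := by ext n : 1; exact R₁.map_preimage _
    refine ⟨g, (RD j).map_injective ?_⟩
    rw [← cancel_mono (rdIso j F).hom]
    refine (Functor.mapDerivedCategoryFactors_hom_naturality R₁ g).trans ?_
    change (rdIso j E).hom ≫ Q.map ((rC j).map g) = _
    rw [hg, hg', Iso.hom_inv_id_assoc]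

end Groth.Agent.DCohAffKP
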